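import Mathlib
import Cfsg.Agent.Lib.Helper50.HUPT.Defs

/-!
# HUPT project (S3360), package [E26], part (B): the pure group theory

A finite solvable group `G` with `63 ∣ |G|` all of whose abelian normal subgroups have order
`1`, `3` or `7` has a normal subgroup `N` of order `s ∈ {3, 7}` and a normal subgroup `M` of
class two with `Z(M) = N` and `s ^ 2 ≤ |M : Z(M)|`.
-/

set_option autoImplicit false

universe v

namespace Cfsg.Agent.Lib.Helper88.HUPT

open Cfsg.Agent.Lib.Helper50.HUPT
open scoped commutatorElement Pointwise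

/-- strict inclusion of finite subgroups gives strict inequality of orders -/
theorem e26B_card_lt {G : Type v} [Group G] [Finite G] {H K : Subgroup G} (h : H < K) :
    Nat.card H < Nat.card K := by
  rcases (Subgroup.card_le_of_le h.le).lt_or_eq with h1 | h1
  · exact h1
  · exact absurd (Subgroup.eq_of_le_of_card_ge h.le h1.ge) h.ne

/-- a non-empty set of subgroups has a member of least order -/
theorem e26B_exists_min {G : Type v} [Group G] (S : Set (Subgroup G)) (hS : S.Nonempty) :
    ∃ N ∈ S, ∀ H ∈ S, Nat.card N ≤ Nat.card H := by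
  obtain ⟨N, hN, hmin⟩ := (measure (fun H : Subgroup G => Nat.card H)).wf.has_min S hS
  exact ⟨N, hN, fun H hH => not_lt.mp (hmin H hH)⟩

/-- a factor commuting with both entries can be dropped from the left entry -/
theorem e26B_comm_left {G : Type v} [Group G] {z a b : G} (hza : Commute z a)
    (hzb : Commute z b) : ⁅z * a, b⁆ = ⁅a, b⁆ := by
  have h1 : Commute z (a * b * a⁻¹) := (hza.mul_right hzb).mul_right hza.inv_right
  have h2 : z * a * b * (z * a)⁻¹ = a * b * a⁻¹ := by
    calc z * a * b * (z * a)⁻¹ = z * (a * b * a⁻¹) * z⁻¹ := by group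
      _ = a * b * a⁻¹ * z * z⁻¹ := by rw [h1.eq]
      _ = a * b * a⁻¹ := by group
  rw [commutatorElement_def, commutatorElement_def, h2]

/-- a factor commuting with both entries can be dropped from the right entry -/
theorem e26B_comm_right {G : Type v} [Group G] {z a b : G} (hza : Commute z a)
    (hzb : Commute z b) : ⁅a, z * b⁆ = ⁅a, b⁆ := by
  rw [← commutatorElement_inv (z * b) a, e26B_comm_left hzb hza, commutatorElement_inv]

/-- the power rule in class two -/
theorem e26B_pow_comm {G : Type v} [Group G] {a b z : G} (hz : a * b = z * b * a)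
    (hza : Commute a z) (k : ℕ) : a ^ k * b = z ^ k * b * a ^ k := by
  induction k with
  | zero => simp
  | succ k ih =>
    calc a ^ (k + 1) * b = a ^ k * (a * b) := by rw [pow_succ, mul_assoc]
      _ = a ^ k * (z * b * a) := by rw [hz]
      _ = (a ^ k * z) * b * a := by simp only [mul_assoc]
      _ = (z * a ^ k) * b * a := by rw [(hza.pow_left k).eq]
      _ = z * (a ^ k * b) * a := by simp only [mul_assoc]
      _ = z * (z ^ k * b * a ^ k) * a := by rw [ih]
      _ = z ^ (k + 1) * b * a ^ (k + 1) := by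
          rw [pow_succ' z, pow_succ a]; simp only [mul_assoc]

/-- **[E26], part (B)** -/
theorem e26_groupB {G : Type v} [Group G] [Finite G] (hsolv : Group.IsSolvable G)
    (h63 : 63 ∣ Nat.card G)
    (hA : ∀ A : Subgroup G, A.Normal → Ab A →
      Nat.card A = 1 ∨ Nat.card A = 3 ∨ Nat.card A = 7) :
    ∃ (s : ℕ) (N M : Subgroup G), (s = 3 ∨ s = 7) ∧ N.Normal ∧ M.Normal ∧ Ab N ∧
      Nat.card N = s ∧ N ≤ M ∧ (∀ a ∈ M, ∀ n ∈ N, a * n = n * a) ∧ ZM M = N ∧ Cl2 M ∧
      s ^ 2 ≤ (Subgroup.center ↥M).index := by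
  have hGpos : 0 < Nat.card G := Nat.card_pos
  have hG63 : 63 ≤ Nat.card G := Nat.le_of_dvd hGpos h63
  -- a minimal normal subgroup
  have htop : (⊤ : Subgroup G) ≠ ⊥ := by
    intro h
    have h1 : Nat.card (⊤ : Subgroup G) = Nat.card (⊥ : Subgroup G) := by rw [h]
    rw [Subgroup.card_top, Subgroup.card_bot] at h1
    omega
  obtain ⟨N, ⟨hNn, hNne⟩, hNmin⟩ := e26B_exists_min {H : Subgroup G | H.Normal ∧ H ≠ ⊥}
    ⟨⊤, inferInstance, htop⟩
  have hNab : Ab N := by
    have hlt : ⁅N, N⁆ < N := Group.IsSolvable.commutator_lt_of_ne_bot hNne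
    have hcn : (⁅N, N⁆ : Subgroup G).Normal := inferInstance
    have hbot : ⁅N, N⁆ = ⊥ := by
      by_contra hne
      have h1 := hNmin ⁅N, N⁆ ⟨hcn, hne⟩
      have h2 := e26B_card_lt hlt
      omega
    have hle := Subgroup.commutator_eq_bot_iff_le_centralizer.mp hbot
    intro a ha b hb
    exact (Subgroup.mem_centralizer_iff.mp (hle ha) b hb).symm
  obtain ⟨s, hs⟩ : ∃ s : ℕ, Nat.card N = s := ⟨_, rfl⟩
  have hNc : s = 3 ∨ s = 7 := by
    rcases hA N hNn hNab with h | h | h
    · exact absurd (Subgroup.card_eq_one.mp h) hNne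
    · exact Or.inl (hs ▸ h)
    · exact Or.inr (hs ▸ h)
  have hsp : s.Prime := by rcases hNc with h | h <;> rw [h] <;> norm_num
  have hsF : Fact s.Prime := ⟨hsp⟩
  -- the centralizer of `N`
  have hCn : (Subgroup.centralizer (N : Set G)).Normal := inferInstance
  have hNC : N ≤ Subgroup.centralizer (N : Set G) := fun a ha =>
    Subgroup.mem_centralizer_iff.mpr (fun h hh => hNab h hh a ha)
  have hidx : (Subgroup.centralizer (N : Set G)).index ∣ s - 1 := by
    have hker : (MulAut.conjNormal (H := N)).ker = Subgroup.centralizer (N : Set G) := by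
      ext g
      rw [MonoidHom.mem_ker, Subgroup.mem_centralizer_iff]
      constructor
      · intro hg h hh
        have h1 := congrArg (fun φ : MulAut N => ((φ ⟨h, hh⟩ : N) : G)) hg
        have h2 : g * h * g⁻¹ = h := by
          simpa only [MulAut.conjNormal_apply, MulAut.one_apply] using h1
        calc h * g = (g * h * g⁻¹) * g := by rw [h2]
          _ = g * h := by group
      · intro hg
        ext ⟨h, hh⟩
        simp only [MulAut.conjNormal_apply, MulAut.one_apply]
        rw [← hg h hh]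
        group
    have hcyc : IsCyclic N := isCyclic_of_prime_card (p := s) hs
    have hcard : Nat.card (MulAut N) = s - 1 := by
      rw [IsCyclic.card_mulAut N, hs, Nat.totient_prime hsp]
    rw [← hker, Subgroup.index_ker, ← hcard]
    exact Subgroup.card_subgroup_dvd_card _
  have hCne : N ≠ Subgroup.centralizer (N : Set G) := by
    intro hEq
    have h1 := Subgroup.index_mul_card (Subgroup.centralizer (N : Set G))
    have h2 : Nat.card (Subgroup.centralizer (N : Set G)) = s := by
      rw [← hs]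
      exact le_antisymm (Subgroup.card_le_of_le hEq.ge) (Subgroup.card_le_of_le hEq.le)
    have h3 : (Subgroup.centralizer (N : Set G)).index ≠ 0 := Subgroup.index_ne_zero_of_finite
    rw [h2] at h1
    rcases hNc with rfl | rfl
    · have h4 := Nat.le_of_dvd (by norm_num) hidx
      have h5 : (Subgroup.centralizer (N : Set G)).index ≤ 2 := h4
      nlinarith
    · have h4 := Nat.le_of_dvd (by norm_num) hidx
      have h5 : (Subgroup.centralizer (N : Set G)).index ≤ 6 := h4
      nlinarith
  -- a minimal normal subgroup strictly between `N` and its centralizer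
  obtain ⟨M, ⟨hMn, hNM, hMC⟩, hMmin⟩ := e26B_exists_min
    {H : Subgroup G | H.Normal ∧ N < H ∧ H ≤ Subgroup.centralizer (N : Set G)}
    ⟨_, hCn, lt_of_le_of_ne hNC hCne, le_rfl⟩
  have hcomm : ∀ a ∈ M, ∀ n ∈ N, a * n = n * a := fun a ha n hn =>
    (Subgroup.mem_centralizer_iff.mp (hMC ha) n hn).symm
  have hMnab : ¬ Ab M := by
    intro hab
    have hd : Nat.card N ∣ Nat.card M := Subgroup.card_dvd_of_le hNM.le
    have hl := e26B_card_lt hNM
    rw [hs] at hd hl
    rcases hA M hMn hab with h | h | h <;> rcases hNc with h' | h' <;> rw [h] at hd hl <;>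
      rw [h'] at hd hl <;> omega
  have hZn : (ZM M).Normal := by
    unfold ZM
    have h1 : (Subgroup.centralizer (M : Set G)).Normal := inferInstance
    exact inferInstance
  have hZab : Ab (ZM M) := by
    intro a ha b hb
    exact Subgroup.mem_centralizer_iff.mp hb.2 a ha.1
  have hNZ : N ≤ ZM M := by
    intro n hn
    exact ⟨hNM.le hn, Subgroup.mem_centralizer_iff.mpr (fun a ha => hcomm a ha n hn)⟩
  have hZeq : ZM M = N := by
    have hd : Nat.card N ∣ Nat.card (ZM M) := Subgroup.card_dvd_of_le hNZ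
    have hc : Nat.card (ZM M) = Nat.card N := by
      rw [hs] at hd ⊢
      rcases hA (ZM M) hZn hZab with h | h | h <;> rcases hNc with h' | h' <;>
        rw [h] at hd ⊢ <;> rw [h'] at hd ⊢ <;> omega
    exact (Subgroup.eq_of_le_of_card_ge hNZ hc.le).symm
  -- the derived subgroup of `M` lies in `N`
  have hder : ⁅M, M⁆ ≤ N := by
    have hM'n : (⁅M, M⁆ : Subgroup G).Normal := inferInstance
    have hM'M : ⁅M, M⁆ ≤ M := Subgroup.commutator_le_right M M
    have hLn : (N ⊔ ⁅M, M⁆ : Subgroup G).Normal := inferInstance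
    have hNL : N ≤ N ⊔ ⁅M, M⁆ := le_sup_left
    have hLM : N ⊔ ⁅M, M⁆ ≤ M := sup_le hNM.le hM'M
    rcases hNL.eq_or_lt with h | h
    · exact le_sup_right.trans h.ge
    · have hcard := hMmin (N ⊔ ⁅M, M⁆) ⟨hLn, h, hLM.trans hMC⟩
      have hLeqM : N ⊔ ⁅M, M⁆ = M := Subgroup.eq_of_le_of_card_ge hLM hcard
      have hperf : ⁅M, M⁆ ≤ ⁅⁅M, M⁆, ⁅M, M⁆⁆ := by
        rw [Subgroup.commutator_le]
        intro g₁ hg₁ g₂ hg₂
        have hg₁' : g₁ ∈ (N : Set G) * ((⁅M, M⁆ : Subgroup G) : Set G) := by
          rw [← Subgroup.normal_mul]; rw [← hLeqM] at hg₁; exact hg₁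
        have hg₂' : g₂ ∈ (N : Set G) * ((⁅M, M⁆ : Subgroup G) : Set G) := by
          rw [← Subgroup.normal_mul]; rw [← hLeqM] at hg₂; exact hg₂
        obtain ⟨n₁, hn₁, m₁, hm₁, rfl⟩ := Set.mem_mul.mp hg₁'
        obtain ⟨n₂, hn₂, m₂, hm₂, rfl⟩ := Set.mem_mul.mp hg₂'
        have c1 : Commute n₁ m₁ := (hcomm m₁ (hM'M hm₁) n₁ hn₁).symm
        have c2 : Commute n₁ (n₂ * m₂) := (hcomm (n₂ * m₂) hg₂ n₁ hn₁).symm
        have c3 : Commute n₂ m₁ := (hcomm m₁ (hM'M hm₁) n₂ hn₂).symm
        have c4 : Commute n₂ m₂ := (hcomm m₂ (hM'M hm₂) n₂ hn₂).symm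
        rw [e26B_comm_left c1 c2, e26B_comm_right c3 c4]
        exact Subgroup.commutator_mem_commutator hm₁ hm₂
      by_cases hb : ⁅M, M⁆ = ⊥
      · rw [hb]; exact bot_le
      · exact absurd (lt_of_le_of_lt hperf (Group.IsSolvable.commutator_lt_of_ne_bot hb))
          (lt_irrefl _)
  have hcm : ∀ a ∈ M, ∀ b ∈ M, cm a b ∈ N := by
    intro a ha b hb
    have h1 : cm a b = ⁅a, b⁆ := rfl
    rw [h1]
    exact hder (Subgroup.commutator_mem_commutator ha hb)
  have hcl2 : Cl2 M := by
    intro a ha b hb c hc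
    exact (hcomm c hc _ (hcm a ha b hb)).symm
  -- the index of the centre
  have hidx2 : s ^ 2 ≤ (Subgroup.center ↥M).index := by
    have hpowG : ∀ a ∈ M, ∀ b ∈ M, b * a ^ s = a ^ s * b := by
      intro a ha b hb
      have hz : cm a b ∈ N := hcm a ha b hb
      have h1 : a * b = cm a b * b * a := by unfold cm; group
      have h2 : Commute a (cm a b) := hcomm a ha _ hz
      have h3 := e26B_pow_comm h1 h2 s
      have h4 : cm a b ^ s = 1 := by
        have h5 : (⟨cm a b, hz⟩ : N) ^ Nat.card N = 1 := pow_card_eq_one'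
        rw [hs] at h5
        have h6 := congrArg (Subtype.val) h5
        simpa using h6
      rw [h3, h4, one_mul]
    have hpow : ∀ x : ↥M, x ^ s ∈ Subgroup.center ↥M := by
      intro x
      rw [Subgroup.mem_center_iff]
      intro y
      apply Subtype.ext
      simpa using hpowG x x.2 y y.2
    have hp : IsPGroup s (↥M ⧸ Subgroup.center ↥M) := by
      intro q
      obtain ⟨x, rfl⟩ := QuotientGroup.mk_surjective q
      refine ⟨1, ?_⟩
      rw [pow_one, ← QuotientGroup.mk_pow, QuotientGroup.eq_one_iff]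
      exact hpow x
    obtain ⟨k, hk⟩ := IsPGroup.iff_card.mp hp
    have hidx_eq : (Subgroup.center ↥M).index = s ^ k := hk
    rw [hidx_eq]
    have hk2 : 2 ≤ k := by
      by_contra hlt
      have hk01 : k = 0 ∨ k = 1 := by omega
      rcases hk01 with rfl | rfl
      · have htop' : Subgroup.center ↥M = ⊤ :=
          Subgroup.index_eq_one.mp (by rw [hidx_eq, pow_zero])
        apply hMnab
        intro a ha b hb
        have h1 : (⟨b, hb⟩ : ↥M) ∈ Subgroup.center ↥M := by rw [htop']; trivial
        have h2 := Subgroup.mem_center_iff.mp h1 ⟨a, ha⟩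
        exact congrArg Subtype.val h2
      · have hcq : Nat.card (↥M ⧸ Subgroup.center ↥M) = s := by rw [hk, pow_one]
        have hcyc : IsCyclic (↥M ⧸ Subgroup.center ↥M) := isCyclic_of_prime_card hcq
        apply hMnab
        intro a ha b hb
        have h2 := (MonoidHom.isMulCommutative_of_isCyclic_of_ker_le_center
          (QuotientGroup.mk' (Subgroup.center ↥M))
          (by rw [QuotientGroup.ker_mk'])).is_comm.comm (⟨a, ha⟩ : ↥M) ⟨b, hb⟩
        exact congrArg Subtype.val h2
    exact Nat.pow_le_pow_right hsp.pos hk2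
  exact ⟨s, N, M, hNc, hNn, hMn, hNab, hs, hNM.le, hcomm, hZeq, hcl2, hidx2⟩

end Cfsg.Agent.Lib.Helper88.HUPT
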