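import Mathlib
import Cfsg.Agent.Lib.Helper50.HUPT.Defs

/-!
# HUPT (S3360) package [SCAL]

In dimension 2 under (NI), every normal abelian subgroup acts by scalars.
-/

set_option autoImplicit false

universe u v

namespace Cfsg.Agent.Lib.Helper88.HUPT

open Cfsg.Agent.Lib.Helper50.HUPT Cfsg.Agent.Lib.Helper49.HUP

theorem pkgScal (hAbn : PkgAbn.{u, v}) : PkgScal.{u, v} := by
  intro q _ V _ _ _ _ G _ _ ρ hinj hTr hNI hcard A hAn hAb a ha
  obtain ⟨hcyc, hfld, -⟩ := hAbn ρ hinj hTr A hAn hAb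
  have hnirr : ¬ Irr ρ A := fun h => hNI ⟨A, hAn, hcyc, h⟩
  unfold Irr at hnirr
  push Not at hnirr
  obtain ⟨W, hWinv, hWbot, hWtop⟩ := hnirr
  have hfin : Module.Finite (ZMod q) V := Module.Finite.of_finite
  have hV2 : Module.finrank (ZMod q) V = 2 := by
    have h1 := Module.natCard_eq_pow_finrank (K := ZMod q) (V := V)
    rw [Nat.card_zmod, hcard] at h1
    exact (Nat.pow_right_injective (Fact.out : q.Prime).two_le h1).symm
  have hW1 : Module.finrank (ZMod q) W = 1 := by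
    have h1 : Module.finrank (ZMod q) W < 2 := by
      rw [← hV2]; exact Submodule.finrank_lt hWtop
    have h2 : Module.finrank (ZMod q) W ≠ 0 := by
      intro h0
      exact hWbot (Submodule.finrank_eq_zero.mp h0)
    omega
  obtain ⟨w₀, hw₀W, hw₀⟩ := Submodule.exists_mem_ne_zero_of_ne_bot hWbot
  have hspan : ∀ w : W, ∃ c : ZMod q, c • (⟨w₀, hw₀W⟩ : W) = w :=
    (finrank_eq_one_iff_of_nonzero' (⟨w₀, hw₀W⟩ : W)
      (fun h => hw₀ (congrArg Subtype.val h))).mp hW1
  obtain ⟨c, hc⟩ := hspan ⟨ρ a w₀, hWinv a ha w₀ hw₀W⟩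
  have hc' : ρ a w₀ = c • w₀ := by
    have := congrArg Subtype.val hc
    simpa using this.symm
  refine ⟨c, ?_⟩
  have hfK : toE ρ a - c • (1 : Module.End (ZMod q) V) ∈ KA ρ A := by
    apply Subalgebra.sub_mem
    · exact Algebra.subset_adjoin ⟨a, ha, rfl⟩
    · exact Subalgebra.smul_mem _ (Subalgebra.one_mem _) c
  have happ : ∀ v : V, (toE ρ a - c • (1 : Module.End (ZMod q) V)) v = ρ a v - c • v := by
    intro v
    simp [toE]
  have hf0 : toE ρ a - c • (1 : Module.End (ZMod q) V) = 0 := by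
    by_contra hne
    have hinjf := hfld.2 _ hfK hne
    have h1 : (toE ρ a - c • (1 : Module.End (ZMod q) V)) w₀ = 0 := by
      rw [happ, hc', sub_self]
    have h2 : (toE ρ a - c • (1 : Module.End (ZMod q) V)) w₀ =
        (toE ρ a - c • (1 : Module.End (ZMod q) V)) 0 := by rw [h1, map_zero]
    exact hw₀ (hinjf h2)
  intro v
  have h3 := happ v
  rw [hf0] at h3
  exact (sub_eq_zero.mp h3.symm)

end Cfsg.Agent.Lib.Helper88.HUPT
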