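import Mathlib
import Cfsg.Agent.Lib.Helper50.HUPT.Defs

/-!
# HUPT (S3360) package [TWOZ]

In dimension 2 under (NI), the centre is cyclic of order dividing `q - 1`.
-/

set_option autoImplicit false

universe u v

namespace Cfsg.Agent.Lib.Helper88.HUPT

open Cfsg.Agent.Lib.Helper50.HUPT Cfsg.Agent.Lib.Helper49.HUP

theorem pkgTwoZ (hScal : PkgScal.{u, v}) : PkgTwoZ.{u, v} := by
  intro q _ V _ _ _ _ G _ _ ρ hinj hTr hNI hcard
  classical
  have hS : ∀ z : Subgroup.center G, ∃ c : ZMod q, ∀ v : V, ρ (z : G) v = c • v := fun z =>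
    hScal ρ hinj hTr hNI hcard (Subgroup.center G) inferInstance
      (fun a ha b _ => ((Subgroup.mem_center_iff.mp ha) b).symm) z z.2
  choose cz hcz using hS
  obtain ⟨v₀, hv₀⟩ := exists_ne (0 : V)
  have huniq : ∀ c c' : ZMod q, c • v₀ = c' • v₀ → c = c' := by
    intro c c' h
    have h1 : (c - c') • v₀ = 0 := by rw [sub_smul, h, sub_self]
    rcases smul_eq_zero.mp h1 with h2 | h2
    · exact sub_eq_zero.mp h2
    · exact absurd h2 hv₀
  let φ : Subgroup.center G →* ZMod q :=
    { toFun := cz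
      map_one' := huniq _ _ (by rw [← hcz 1 v₀]; simp)
      map_mul' := fun z z' => huniq _ _ (by
        rw [mul_smul, ← hcz z' v₀, ← hcz z, ← hcz (z * z') v₀]
        simp) }
  have hφinj : Function.Injective φ := by
    intro z z' h
    have h' : cz z = cz z' := h
    apply Subtype.ext
    apply hinj
    apply LinearEquiv.ext
    intro w
    rw [hcz z w, hcz z' w, h']
  have hcyc : IsCyclic (Subgroup.center G) := isCyclic_of_injective_ringHom φ hφinj
  refine ⟨hcyc, ?_⟩
  obtain ⟨g, hg⟩ := hcyc.exists_generator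
  have hord : orderOf g = Nat.card (Subgroup.center G) :=
    orderOf_eq_card_of_forall_mem_zpowers hg
  have hcg : cz g ≠ 0 := by
    intro h0
    have h1 := hcz g v₀
    rw [h0, zero_smul] at h1
    exact hv₀ ((ρ (g : G)).map_eq_zero_iff.mp h1)
  have hpow : cz g ^ (q - 1) = 1 := ZMod.pow_card_sub_one_eq_one hcg
  have hg1 : g ^ (q - 1) = 1 := by
    apply hφinj
    rw [map_pow, map_one]
    exact hpow
  rw [← hord]
  exact orderOf_dvd_of_pow_eq_one hg1

end Cfsg.Agent.Lib.Helper88.HUPT
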